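import Groth.Agent.Lib.Adapted8.Derived
import Groth.Agent.Lib.DimRes8.Coresolution
import Groth.Agent.Lib.RFPlus.Adapted
import Mathlib.Algebra.Homology.DerivedCategory.Basic
import Mathlib.CategoryTheory.Triangulated.Subcategory

/-!
Functors of finite cohomological dimension: unbounded complexes of acyclic objects are adapted.
-/

set_option autoImplicit false
set_option backward.isDefEq.respectTransparency false

universe w w' v u v' u'

open CategoryTheory CategoryTheory.Limits

namespace Groth.Agent.Adapted8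

open RFPlus DimRes8

variable {A : Type u} [Category.{v} A] [Abelian A] [EnoughInjectives A] {B : Type u'} [Category.{v'} B] [Abelian B]
  (F : A ⥤ B) [F.Additive] {n : ℕ} (hn : ∀ X : A, IsZero ((F.rightDerived n).obj X))

include hn in
theorem isZero_rightDerived_of_le : ∀ m : ℕ, n ≤ m → ∀ X : A, IsZero ((F.rightDerived m).obj X) := by
  letI := HasDerivedCategory.standard A
  letI := HasDerivedCategory.standard B
  intro m
  induction m with
  | zero => intro h; obtain rfl : n = 0 := (by omega); exact hn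
  | succ m ih =>
    intro h X
    rcases (show n = m + 1 ∨ n ≤ m by omega) with rfl | h'
    · exact hn X
    · obtain ⟨J⟩ := EnoughInjectives.presentation X
      haveI := J.mono
      haveI := J.injective
      exact isZero_rightDerived_X₁ F _ (shortExact_cokernel J.f) m
        (F.isZero_rightDerived_obj_injective_succ m J.J) (Or.inl (ih h' _))

variable [PreservesFiniteLimits F]

omit hn in
theorem cogen_acyclic : Cogen (IsAcyclicObj F) := by
  letI := HasDerivedCategory.standard A
  letI := HasDerivedCategory.standard B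
  refine ⟨fun e h i hi => (h i hi).of_iso ((F.rightDerived i).mapIso e.symm), fun X => ?_, fun S hS h1 => ⟨fun h2 => ?_, fun h3 i hi => ?_⟩⟩
  · obtain ⟨J⟩ := EnoughInjectives.presentation X
    haveI := J.injective
    exact ⟨J.J, J.f, isAcyclicObj_injective F J.J, J.mono⟩
  · exact (isAcyclicObj_cokernel F S hS h1 h2).1
  · exact isZero_rightDerived_X₂ F S hS i (h1 i hi) (h3 i hi)

omit hn in
theorem cdim_of_isZero : ∀ (k : ℕ) (X : A), (∀ j, k < j → IsZero ((F.rightDerived j).obj X)) →
    CDim (IsAcyclicObj F) k X := by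
  letI := HasDerivedCategory.standard A
  letI := HasDerivedCategory.standard B
  intro k
  induction k with
  | zero => exact fun X h => h
  | succ k ih =>
    intro X h Y ι _ hY
    exact ih _ fun j hj => isZero_rightDerived_X₃ F _ (shortExact_cokernel ι) j (hY j (by omega)) (h (j + 1) (by omega))

include hn in
/-- An acyclic complex of acyclic objects has acyclic image. -/
theorem acyclic_map (C : CochainComplex A ℤ) (hac : C.Acyclic) (hC : ∀ m, IsAcyclicObj F (C.X m)) :
    ((F.mapHomologicalComplex (ComplexShape.up ℤ)).obj C).Acyclic := by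
  letI := HasDerivedCategory.standard A
  letI := HasDerivedCategory.standard B
  let p : ∀ i, C.X i ⟶ kernel (C.d (i + 1) (i + 1 + 1)) := fun i => kernel.lift _ (C.d i (i + 1)) (C.d_comp_d _ _ _)
  have hp : ∀ i, Epi (p i) := fun i =>
    ((C.sc' i (i + 1) (i + 1 + 1)).exact_iff_epi_kernel_lift).1 ((C.exactAt_iff' i (i + 1) (i + 1 + 1) (by simp) (by simp)).1 (hac (i + 1)))
  have hw : ∀ i, kernel.ι (C.d i (i + 1)) ≫ p i = 0 := fun i => by
    rw [← cancel_mono (kernel.ι _)]; simp [p]
  have hse : ∀ i, (ShortComplex.mk _ _ (hw i)).ShortExact := fun i => by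
    haveI := hp i
    refine { exact := ShortComplex.exact_of_f_is_kernel _ (KernelFork.IsLimit.ofι' _ (hw i) fun k hk =>
      ⟨kernel.lift _ k (by
        have h := congrArg (· ≫ kernel.ι (C.d (i + 1) (i + 1 + 1))) hk
        simpa [p] using h), kernel.lift_ι _ _ _⟩) }
  have hZ : ∀ (d j : ℕ), 0 < j → n ≤ j + d → ∀ i, IsZero ((F.rightDerived j).obj (kernel (C.d i (i + 1)))) := by
    intro d
    induction d with
    | zero => exact fun j _ h i => isZero_rightDerived_of_le F hn j (by omega) _
    | succ d ih =>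
      intro j hj h i
      obtain ⟨l, rfl⟩ : ∃ l, i = l + 1 := ⟨i - 1, by omega⟩
      exact isZero_rightDerived_X₃ F _ (hse l) j (hC l j hj) (ih (j + 1) (by omega) (by omega) l)
  have hFse : ∀ i, ((ShortComplex.mk _ _ (hw i)).map F).ShortExact := fun i =>
    shortExact_map_of_isZero F _ (hse i) (hZ n 1 Nat.one_pos (by omega) i)
  intro i
  obtain ⟨k, rfl⟩ : ∃ k, i = k + 1 := ⟨i - 1, by omega⟩
  rw [HomologicalComplex.exactAt_iff' _ k (k + 1) (k + 1 + 1) (by simp) (by simp),
    ShortComplex.exact_iff_exact_up_to_refinements]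
  intro T x hx
  change x ≫ F.map (C.d (k + 1) (k + 1 + 1)) = 0 at hx
  obtain ⟨T₁, π₁, hπ₁, y, hy⟩ := (hFse (k + 1)).exact.exact_up_to_refinements x (by
    haveI := hse (k + 1 + 1)
    haveI : Mono (F.map (kernel.ι (C.d (k + 1 + 1) (k + 1 + 1 + 1)))) := (hFse (k + 1 + 1)).mono_f
    change x ≫ F.map (p (k + 1)) = 0
    rw [← cancel_mono (F.map (kernel.ι (C.d (k + 1 + 1) (k + 1 + 1 + 1)))), zero_comp, Category.assoc, ← F.map_comp]
    simpa [p] using hx)
  haveI : Epi (F.map (p k)) := (hFse k).epi_g
  obtain ⟨T₂, π₂, hπ₂, z, hz⟩ := surjective_up_to_refinements_of_epi (F.map (p k)) y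
  refine ⟨T₂, π₂ ≫ π₁, inferInstance, z, ?_⟩
  change (π₂ ≫ π₁) ≫ x = z ≫ F.map (C.d k (k + 1))
  change π₁ ≫ x = y ≫ F.map (kernel.ι (C.d (k + 1) (k + 1 + 1))) at hy
  rw [Category.assoc, hy, reassoc_of% hz, ← F.map_comp, show p k ≫ kernel.ι _ = C.d k (k + 1) from kernel.lift_ι _ _ _]

include hn in
theorem quasiIso_map {K L : CochainComplex A ℤ} (f : K ⟶ L) [QuasiIso f]
    (hK : ∀ m, IsAcyclicObj F (K.X m)) (hL : ∀ m, IsAcyclicObj F (L.X m)) :
    QuasiIso ((F.mapHomologicalComplex (ComplexShape.up ℤ)).map f) := by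
  rw [quasiIso_iff_acyclic_cone]
  have hM := (quasiIso_iff_acyclic_cone f).1 inferInstance
  have hX : ∀ m, IsAcyclicObj F ((CochainComplex.mappingCone f).X m) := fun m i hi =>
    ((isAcyclicObj_biprod F _ _ (hK (m + 1)) (hL m)) i hi).of_iso
      ((F.rightDerived i).mapIso (HomologicalComplex.homotopyCofiber.XIsoBiprod f m (m + 1) rfl))
  exact fun i => (acyclic_map F hn _ hM hX i).of_iso (CochainComplex.mappingCone.mapHomologicalComplexIso f F)

omit hn in
instance hasLeftCalculus : (HomotopyCategory.quasiIso A (ComplexShape.up ℤ)).HasLeftCalculusOfFractions := by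
  rw [HomotopyCategory.quasiIso_eq_trW_subcategoryAcyclic]
  infer_instance

include hn in
theorem isAdapted [HasDerivedCategory.{w'} B] :
    IsAdapted (F.mapHomotopyCategory (ComplexShape.up ℤ) ⋙ DerivedCategory.Qh)
      (HomotopyCategory.quasiIso A (ComplexShape.up ℤ)) (fun X => ∀ m, IsAcyclicObj F (X.as.X m)) := by
  refine ⟨fun X => ?_, fun X Y s hs hX hY => ?_⟩
  · obtain ⟨K, rfl⟩ := HomotopyCategory.quotient_obj_surjective X
    obtain ⟨L, f, hf, hL⟩ := DimRes8.exists_resolution (grading (cogen_acyclic F)) K fun m =>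
      ⟨m - n, fun j hj => ⟨n, cdim_of_isZero F n _ fun i hi => isZero_rightDerived_of_le F hn i hi.le _, by omega⟩⟩
    exact ⟨(HomotopyCategory.quotient A _).obj L, (HomotopyCategory.quotient A _).map f,
      (HomotopyCategory.quotient_map_mem_quasiIso_iff f).2 hf, hL⟩
  · obtain ⟨K, rfl⟩ := HomotopyCategory.quotient_obj_surjective X
    obtain ⟨L, rfl⟩ := HomotopyCategory.quotient_obj_surjective Y
    obtain ⟨f, rfl⟩ := (HomotopyCategory.quotient A (ComplexShape.up ℤ)).map_surjective s
    haveI : QuasiIso f := (HomotopyCategory.quotient_map_mem_quasiIso_iff f).1 hs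
    change IsIso (DerivedCategory.Qh.map ((HomotopyCategory.quotient B (ComplexShape.up ℤ)).map
      ((F.mapHomologicalComplex (ComplexShape.up ℤ)).map f)))
    refine Localization.inverts DerivedCategory.Qh (HomotopyCategory.quasiIso B (ComplexShape.up ℤ)) _ ?_
    exact (HomotopyCategory.quotient_map_mem_quasiIso_iff _).2 (quasiIso_map F hn f hX hY)

end Groth.Agent.Adapted8
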