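import Mathlib.CategoryTheory.Functor.Derived.PointwiseRightDerived
import Mathlib.CategoryTheory.Localization.CalculusOfFractions

/-!
Right derived functors from an adapted class of objects and a left calculus of fractions.
-/

set_option autoImplicit false
set_option backward.isDefEq.respectTransparency false

universe v u v' u' v'' u''

open CategoryTheory CategoryTheory.Limits CategoryTheory.Functor

namespace Groth.Agent.Adapted8

variable {C : Type u} [Category.{v} C] {H : Type u'} [Category.{v'} H] (F : C ⥤ H) (W : MorphismProperty C)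
  (P : C → Prop)

/-- An adapted class: every object has a resolution, and `F` inverts `W` inside the class. -/
structure IsAdapted : Prop where
  res : ∀ X : C, ∃ (L : C) (s : X ⟶ L), W s ∧ P L
  inverts : ∀ ⦃X Y : C⦄ (s : X ⟶ Y), W s → P X → P Y → IsIso (F.map s)

variable {F W P} [W.HasLeftCalculusOfFractions] {D : Type u''} [Category.{v''} D] (L : C ⥤ D)
  [L.IsLocalization W]

/-- A fraction with target in the class. -/
theorem exists_frac (h : IsAdapted F W P) {Z M : C} (g : L.obj Z ⟶ L.obj M) :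
    ∃ (M' : C) (f : Z ⟶ M') (s : M ⟶ M'), W s ∧ P M' ∧ g ≫ L.map s = L.map f := by
  obtain ⟨φ, rfl⟩ := Localization.exists_leftFraction L W g
  obtain ⟨M', t, ht, hM'⟩ := h.res φ.Y'
  refine ⟨M', φ.f ≫ t, φ.s ≫ t, W.comp_mem _ _ φ.hs ht, hM', ?_⟩
  rw [L.map_comp, L.map_comp, ← Category.assoc, φ.map_comp_map_s]

/-- The value of a fraction does not depend on it. -/
theorem frac_eq (h : IsAdapted F W P) {Z M : C} (hM : P M) (g : L.obj Z ⟶ L.obj M)
    {M₁ : C} (f₁ : Z ⟶ M₁) (s₁ : M ⟶ M₁) (hs₁ : W s₁) (hM₁ : P M₁) (e₁ : g ≫ L.map s₁ = L.map f₁)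
    {M₂ : C} (f₂ : Z ⟶ M₂) (s₂ : M ⟶ M₂) (hs₂ : W s₂) (hM₂ : P M₂) (e₂ : g ≫ L.map s₂ = L.map f₂)
    (x₁ : F.obj M₁ ⟶ F.obj M) (hx₁ : F.map s₁ ≫ x₁ = 𝟙 _)
    (x₂ : F.obj M₂ ⟶ F.obj M) (hx₂ : F.map s₂ ≫ x₂ = 𝟙 _) :
    F.map f₁ ≫ x₁ = F.map f₂ ≫ x₂ := by
  let φ₁ : W.LeftFraction Z M := ⟨f₁, s₁, hs₁⟩
  let φ₂ : W.LeftFraction Z M := ⟨f₂, s₂, hs₂⟩
  haveI := Localization.inverts L W s₁ hs₁
  haveI := Localization.inverts L W s₂ hs₂
  have hφ : φ₁.map L (Localization.inverts L W) = φ₂.map L (Localization.inverts L W) := by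
    show L.map f₁ ≫ inv (L.map s₁) = L.map f₂ ≫ inv (L.map s₂)
    rw [← e₁, ← e₂]; simp
  obtain ⟨N, t₁, t₂, hs, hf, ht⟩ := (MorphismProperty.LeftFraction.map_eq_iff L W φ₁ φ₂).1 hφ
  obtain ⟨N', r, hr, hN'⟩ := h.res N
  haveI := h.inverts _ hs₁ hM hM₁
  haveI := h.inverts _ hs₂ hM hM₂
  haveI : IsIso (F.map (s₁ ≫ t₁ ≫ r)) :=
    h.inverts _ (by rw [← Category.assoc]; exact W.comp_mem _ _ ht hr) hM hN'
  have k : ∀ {M₀ : C} (s : M ⟶ M₀) [IsIso (F.map s)] (x : F.obj M₀ ⟶ F.obj M) (_ : F.map s ≫ x = 𝟙 _)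
      (t : M₀ ⟶ N') (_ : s ≫ t = s₁ ≫ t₁ ≫ r), x = F.map t ≫ inv (F.map (s₁ ≫ t₁ ≫ r)) := by
    intro M₀ s _ x hx t ht'
    rw [← cancel_epi (F.map s), hx, ← Category.assoc, ← F.map_comp, ht', IsIso.hom_inv_id]
  rw [k s₁ x₁ hx₁ (t₁ ≫ r) rfl, k s₂ x₂ hx₂ (t₂ ≫ r) (by
    change φ₂.s ≫ t₂ ≫ r = φ₁.s ≫ t₁ ≫ r
    rw [← Category.assoc, ← hs, Category.assoc])]
  have hf' : f₁ ≫ t₁ ≫ r = f₂ ≫ t₂ ≫ r := by
    change φ₁.f ≫ t₁ ≫ r = φ₂.f ≫ t₂ ≫ r
    rw [← Category.assoc φ₁.f, hf, Category.assoc]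
  rw [← Category.assoc (F.map f₁), ← Category.assoc (F.map f₂), ← F.map_comp, ← F.map_comp, hf']

/-- At an object of the class the derived functor is computed by the functor itself. -/
theorem exists_colimit (h : IsAdapted F W P) (M : C) (hM : P M) :
    ∃ (c : Cocone (CostructuredArrow.proj L (L.obj M) ⋙ F)) (_ : IsColimit c),
      IsIso (c.ι.app (CostructuredArrow.mk (𝟙 (L.obj M)))) := by
  choose M' f s hs hM' he using fun (j : CostructuredArrow L (L.obj M)) => exists_frac L h j.hom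
  have hi : ∀ j, IsIso (F.map (s j)) := fun j => h.inverts _ (hs j) hM (hM' j)
  let c : Cocone (CostructuredArrow.proj L (L.obj M) ⋙ F) :=
    { pt := F.obj M
      ι :=
        { app := fun j => F.map (f j) ≫ inv (F.map (s j))
          naturality := fun i j φ => by
            dsimp
            rw [Category.comp_id, ← Category.assoc, ← F.map_comp]
            exact frac_eq L h hM i.hom (φ.left ≫ f j) (s j) (hs j) (hM' j)
              (by rw [← CostructuredArrow.w φ, Category.assoc, he j, L.map_comp])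
              (f i) (s i) (hs i) (hM' i) (he i) _ (by simp) _ (by simp) } }
  have hid : c.ι.app (CostructuredArrow.mk (𝟙 (L.obj M))) = 𝟙 (F.obj M) := by
    show F.map (f (CostructuredArrow.mk (𝟙 (L.obj M)))) ≫ inv (F.map (s (CostructuredArrow.mk (𝟙 (L.obj M))))) = _
    have := frac_eq L h hM (𝟙 (L.obj M)) (f (CostructuredArrow.mk (𝟙 (L.obj M))))
      (s (CostructuredArrow.mk (𝟙 (L.obj M)))) (hs _) (hM' _) (he (CostructuredArrow.mk (𝟙 (L.obj M)))) (𝟙 M) (𝟙 M)
      (W.id_mem M) hM (by simp) _ (IsIso.hom_inv_id _) (𝟙 _) (by simp)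
    simpa using this
  refine ⟨c, ⟨fun t => t.ι.app (CostructuredArrow.mk (𝟙 (L.obj M))), fun t j => ?_, fun t m hm => ?_⟩, ?_⟩
  · haveI := Localization.inverts L W _ (hs j)
    let k : CostructuredArrow L (L.obj M) := CostructuredArrow.mk (Y := M' j) (inv (L.map (s j)))
    let a : j ⟶ k := CostructuredArrow.homMk (f j) (by
      show L.map (f j) ≫ inv (L.map (s j)) = j.hom
      rw [IsIso.comp_inv_eq, he j])
    let b : CostructuredArrow.mk (𝟙 (L.obj M)) ⟶ k := CostructuredArrow.homMk (s j) (by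
      show L.map (s j) ≫ inv (L.map (s j)) = 𝟙 _
      simp)
    have ha : F.map (f j) ≫ t.ι.app k = t.ι.app j := t.w a
    have hb : F.map (s j) ≫ t.ι.app k = t.ι.app (CostructuredArrow.mk (𝟙 (L.obj M))) := t.w b
    change (F.map (f j) ≫ inv (F.map (s j))) ≫ t.ι.app (CostructuredArrow.mk (𝟙 (L.obj M))) = _
    refine ((congrArg ((F.map (f j) ≫ inv (F.map (s j))) ≫ ·) hb).symm.trans ?_).trans ha
    exact (Category.assoc _ _ _).trans (congrArg (F.map (f j) ≫ ·) (IsIso.inv_hom_id_assoc _ _))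
  · exact (Category.id_comp m).symm.trans ((congrArg (· ≫ m) hid.symm).trans (hm _))
  · rw [hid]; exact inferInstanceAs (IsIso (𝟙 (F.obj M)))

theorem hasPointwiseRightDerivedFunctor (h : IsAdapted F W P) : F.HasPointwiseRightDerivedFunctor W := by
  intro X
  obtain ⟨M, w, hw, hM⟩ := h.res X
  rw [F.hasPointwiseRightDerivedFunctorAt_iff_of_mem W w hw, F.hasPointwiseRightDerivedFunctorAt_iff W.Q W]
  obtain ⟨c, hc, -⟩ := exists_colimit W.Q h M hM
  exact ⟨⟨⟨c, hc⟩⟩⟩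

theorem isIso_app (h : IsAdapted F W P) (RF : D ⥤ H) (α : F ⟶ L ⋙ RF) [RF.IsRightDerivedFunctor α W]
    (M : C) (hM : P M) : IsIso (α.app M) := by
  haveI := hasPointwiseRightDerivedFunctor h
  obtain ⟨c, hc, hiso⟩ := exists_colimit L h M hM
  let hE := isPointwiseLeftKanExtensionOfHasPointwiseRightDerivedFunctor RF α W (L.obj M)
  let e := IsColimit.coconePointUniqueUpToIso hc hE
  have h1 : c.ι.app (CostructuredArrow.mk (𝟙 (L.obj M))) ≫ e.hom =
      α.app M ≫ RF.map (𝟙 (L.obj M)) :=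
    IsColimit.comp_coconePointUniqueUpToIso_hom hc hE _
  have h2 : α.app M ≫ RF.map (𝟙 (L.obj M)) = α.app M := by
    rw [CategoryTheory.Functor.map_id]; exact Category.comp_id (α.app M)
  exact (h1.trans h2) ▸ (IsIso.comp_isIso' hiso inferInstance)

end Groth.Agent.Adapted8
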