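import Mathlib.Algebra.Homology.DerivedCategory.Fractions
import Mathlib.CategoryTheory.Functor.KanExtension.Basic

/-!
Kan extensions along the localization of complexes, recognized on enough complexes.
-/

set_option autoImplicit false
set_option backward.isDefEq.respectTransparency false

universe w v u v' u'

open CategoryTheory CategoryTheory.Limits CategoryTheory.Functor

namespace Groth.Agent.Adapted8

variable {A : Type u} [Category.{v} A] [Abelian A] [HasDerivedCategory.{w} A] {H : Type u'} [Category.{v'} H]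
  {F : CochainComplex A ℤ ⥤ H} {P : CochainComplex A ℤ → Prop}

open DerivedCategory (Q)

/-- A functor agreeing with `F` on enough complexes (targets of quasi-isomorphisms) is a left Kan extension. -/
theorem isLeftKanExtension_of (hres : ∀ K, ∃ (L : CochainComplex A ℤ) (s : K ⟶ L), QuasiIso s ∧ P L)
    (RF : DerivedCategory A ⥤ H) (α : F ⟶ Q ⋙ RF) (hα : ∀ L, P L → IsIso (α.app L)) :
    RF.IsLeftKanExtension α := by
  have hobj : ∀ Y : DerivedCategory A, ∃ (L : CochainComplex A ℤ) (_ : Q.obj L ≅ Y), P L := fun Y => by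
    haveI : (Q : CochainComplex A ℤ ⥤ DerivedCategory A).EssSurj :=
      Localization.essSurj _ (HomologicalComplex.quasiIso A (ComplexShape.up ℤ))
    obtain ⟨L, s, hs, hL⟩ := hres ((Q : CochainComplex A ℤ ⥤ DerivedCategory A).objPreimage Y)
    exact ⟨L, (asIso (Q.map s)).symm ≪≫ Q.objObjPreimageIso Y, hL⟩
  choose L e hL using hobj
  haveI : ∀ Y, IsIso (α.app (L Y)) := fun Y => hα _ (hL Y)
  have hfr : ∀ {X X' : CochainComplex A ℤ} (y : Q.obj X ⟶ Q.obj X'),
      ∃ (M : CochainComplex A ℤ) (γ : X ⟶ M) (σ : X' ⟶ M), IsIso (Q.map σ) ∧ P M ∧ y ≫ Q.map σ = Q.map γ := by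
    intro X X' y
    obtain ⟨Z, g, s, hs, rfl⟩ := DerivedCategory.left_fac y
    obtain ⟨M, r, hr, hM⟩ := hres Z
    haveI := hs
    haveI : IsIso (Q.map r) := by rw [DerivedCategory.isIso_Q_map_iff_quasiIso]; exact hr
    refine ⟨M, g ≫ r, s ≫ r, by rw [Functor.map_comp]; infer_instance, hM, by simp⟩
  refine ⟨⟨IsInitial.ofUniqueHom (fun E => ?_) fun E m => ?_⟩⟩
  · have hn : ∀ {X M : CochainComplex A ℤ} (f : X ⟶ M) [IsIso (α.app X)] [IsIso (α.app M)],
        RF.map (Q.map f) ≫ CategoryTheory.inv (α.app M) ≫ E.hom.app M =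
          CategoryTheory.inv (α.app X) ≫ E.hom.app X ≫ E.right.map (Q.map f) := by
      intro X M f _ _
      rw [IsIso.eq_inv_comp]
      have h := α.naturality f
      simp only [Functor.comp_map] at h
      rw [← reassoc_of% h, IsIso.hom_inv_id_assoc]
      exact E.hom.naturality f
    refine StructuredArrow.homMk
      { app := fun Y => RF.map (e Y).inv ≫ CategoryTheory.inv (α.app (L Y)) ≫ E.hom.app (L Y) ≫ E.right.map (e Y).hom
        naturality := fun Y Y' y => ?_ } ?_
    · obtain ⟨M, γ, σ, hσ, hM, hfac⟩ := hfr ((e Y).hom ≫ y ≫ (e Y').inv)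
      haveI := hα M hM
      show RF.map y ≫ RF.map (e Y').inv ≫ CategoryTheory.inv (α.app (L Y')) ≫ E.hom.app (L Y') ≫ E.right.map (e Y').hom =
        (RF.map (e Y).inv ≫ CategoryTheory.inv (α.app (L Y)) ≫ E.hom.app (L Y) ≫ E.right.map (e Y).hom) ≫ E.right.map y
      simp only [Category.assoc]
      refine (cancel_epi (RF.map (e Y).hom)).1 ?_
      rw [← RF.map_comp_assoc, ← RF.map_comp_assoc, ← RF.map_comp_assoc, Iso.hom_inv_id, RF.map_id, Category.id_comp,
        Category.assoc]
      have h2 : (e Y).hom ≫ y = Q.map γ ≫ CategoryTheory.inv (Q.map σ) ≫ (e Y').hom := by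
        rw [← reassoc_of% hfac]; simp
      have h3 : RF.map (CategoryTheory.inv (Q.map σ)) ≫ CategoryTheory.inv (α.app (L Y')) ≫ E.hom.app (L Y') =
          CategoryTheory.inv (α.app M) ≫ E.hom.app M ≫ E.right.map (CategoryTheory.inv (Q.map σ)) := by
        rw [← cancel_epi (RF.map (Q.map σ)), ← RF.map_comp_assoc, IsIso.hom_inv_id, RF.map_id, Category.id_comp,
          reassoc_of% (hn σ), ← E.right.map_comp, IsIso.hom_inv_id, CategoryTheory.Functor.map_id]
        exact (congrArg _ (Category.comp_id _)).symm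
      calc RF.map ((e Y).hom ≫ y ≫ (e Y').inv) ≫ CategoryTheory.inv (α.app (L Y')) ≫ E.hom.app (L Y') ≫ E.right.map (e Y').hom
          = RF.map (Q.map γ) ≫ RF.map (CategoryTheory.inv (Q.map σ)) ≫ CategoryTheory.inv (α.app (L Y')) ≫ E.hom.app (L Y') ≫ E.right.map (e Y').hom := by
            rw [← RF.map_comp_assoc, ← hfac]; simp
        _ = CategoryTheory.inv (α.app (L Y)) ≫ E.hom.app (L Y) ≫ E.right.map ((e Y).hom ≫ y) := by
            rw [reassoc_of% h3, reassoc_of% (hn γ), h2]; simp
        _ = _ := by rw [E.right.map_comp]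
    · ext K
      show α.app K ≫ RF.map (e (Q.obj K)).inv ≫ CategoryTheory.inv (α.app (L (Q.obj K))) ≫ E.hom.app (L (Q.obj K)) ≫
        E.right.map (e (Q.obj K)).hom = E.hom.app K
      obtain ⟨M, γ, σ, hσ, hM, hfac⟩ := hfr (e (Q.obj K)).inv
      haveI := hα M hM
      have h := α.naturality γ
      simp only [Functor.comp_map] at h
      have h' : E.hom.app K ≫ E.right.map (Q.map γ) = F.map γ ≫ E.hom.app M := (E.hom.naturality γ).symm
      have h4 : α.app K ≫ RF.map (e (Q.obj K)).inv ≫ RF.map (Q.map σ) ≫ CategoryTheory.inv (α.app M) ≫ E.hom.app M =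
          E.hom.app K ≫ E.right.map (Q.map γ) := by
        rw [← RF.map_comp_assoc, hfac, ← reassoc_of% h, IsIso.hom_inv_id_assoc, h']
      rw [hn σ] at h4
      have h5 : E.right.map (Q.map γ) ≫ E.right.map (CategoryTheory.inv (Q.map σ)) ≫ E.right.map (e (Q.obj K)).hom = 𝟙 _ := by
        rw [← E.right.map_comp, ← E.right.map_comp, ← hfac]; simp
      refine Eq.trans ?_ ((congrArg (E.hom.app K ≫ ·) h5).trans (Category.comp_id _))
      rw [← reassoc_of% h4, ← E.right.map_comp_assoc, IsIso.hom_inv_id, CategoryTheory.Functor.map_id, Category.id_comp]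
  · apply StructuredArrow.hom_ext
    ext Y
    show m.right.app Y = RF.map (e Y).inv ≫ CategoryTheory.inv (α.app (L Y)) ≫ E.hom.app (L Y) ≫ E.right.map (e Y).hom
    have h := congr_app (StructuredArrow.w m) (L Y)
    change α.app (L Y) ≫ m.right.app (Q.obj (L Y)) = E.hom.app (L Y) at h
    have hn : RF.map (e Y).hom ≫ m.right.app Y = m.right.app (Q.obj (L Y)) ≫ E.right.map (e Y).hom :=
      m.right.naturality (e Y).hom
    refine ((RF.mapIso (e Y)).inv_hom_id_assoc (m.right.app Y)).symm.trans ?_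
    refine congrArg (RF.map (e Y).inv ≫ ·) ?_
    rw [IsIso.eq_inv_comp]
    exact (congrArg (α.app (L Y) ≫ ·) hn).trans ((Category.assoc _ _ _).symm.trans (congrArg (· ≫ _) h))

/-- A functor agreeing with `F` on enough complexes (sources of quasi-isomorphisms) is a right Kan extension. -/
theorem isRightKanExtension_of (hres : ∀ K, ∃ (L : CochainComplex A ℤ) (s : L ⟶ K), QuasiIso s ∧ P L)
    (LF : DerivedCategory A ⥤ H) (α : Q ⋙ LF ⟶ F) (hα : ∀ L, P L → IsIso (α.app L)) :
    LF.IsRightKanExtension α := by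
  have hobj : ∀ Y : DerivedCategory A, ∃ (L : CochainComplex A ℤ) (_ : Q.obj L ≅ Y), P L := fun Y => by
    haveI : (Q : CochainComplex A ℤ ⥤ DerivedCategory A).EssSurj :=
      Localization.essSurj _ (HomologicalComplex.quasiIso A (ComplexShape.up ℤ))
    obtain ⟨L, s, hs, hL⟩ := hres ((Q : CochainComplex A ℤ ⥤ DerivedCategory A).objPreimage Y)
    exact ⟨L, asIso (Q.map s) ≪≫ Q.objObjPreimageIso Y, hL⟩
  choose L e hL using hobj
  haveI : ∀ Y, IsIso (α.app (L Y)) := fun Y => hα _ (hL Y)
  have hfr : ∀ {X X' : CochainComplex A ℤ} (y : Q.obj X ⟶ Q.obj X'),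
      ∃ (M : CochainComplex A ℤ) (σ : M ⟶ X) (γ : M ⟶ X'), IsIso (Q.map σ) ∧ P M ∧ Q.map σ ≫ y = Q.map γ := by
    intro X X' y
    obtain ⟨Z, s, hs, g, rfl⟩ := DerivedCategory.right_fac y
    obtain ⟨M, r, hr, hM⟩ := hres Z
    haveI := hs
    haveI : IsIso (Q.map r) := by rw [DerivedCategory.isIso_Q_map_iff_quasiIso]; exact hr
    refine ⟨M, r ≫ s, r ≫ g, by rw [Functor.map_comp]; infer_instance, hM, by simp⟩
  refine ⟨⟨IsTerminal.ofUniqueHom (fun E => ?_) fun E m => ?_⟩⟩
  · have hn : ∀ {X M : CochainComplex A ℤ} (f : X ⟶ M) [IsIso (α.app X)] [IsIso (α.app M)],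
        E.left.map (Q.map f) ≫ E.hom.app M ≫ CategoryTheory.inv (α.app M) =
          E.hom.app X ≫ CategoryTheory.inv (α.app X) ≫ LF.map (Q.map f) := by
      intro X M f _ _
      rw [← cancel_mono (α.app M)]
      simp only [Category.assoc, IsIso.inv_hom_id, Category.comp_id]
      have h := α.naturality f
      simp only [Functor.comp_map] at h
      rw [h, IsIso.inv_hom_id_assoc]
      exact E.hom.naturality f
    refine CostructuredArrow.homMk
      { app := fun Y => E.left.map (e Y).inv ≫ E.hom.app (L Y) ≫ CategoryTheory.inv (α.app (L Y)) ≫ LF.map (e Y).hom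
        naturality := fun Y Y' y => ?_ } ?_
    · obtain ⟨M, σ, γ, hσ, hM, hfac⟩ := hfr ((e Y).hom ≫ y ≫ (e Y').inv)
      haveI := hα M hM
      show E.left.map y ≫ E.left.map (e Y').inv ≫ E.hom.app (L Y') ≫ CategoryTheory.inv (α.app (L Y')) ≫ LF.map (e Y').hom =
        (E.left.map (e Y).inv ≫ E.hom.app (L Y) ≫ CategoryTheory.inv (α.app (L Y)) ≫ LF.map (e Y).hom) ≫ LF.map y
      simp only [Category.assoc]
      refine (cancel_epi (E.left.map (e Y).hom)).1 ((cancel_epi (E.left.map (Q.map σ))).1 ?_)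
      simp only [← E.left.map_comp_assoc]
      rw [hfac, reassoc_of% (hn γ), Iso.hom_inv_id, Category.comp_id, reassoc_of% (hn σ), ← LF.map_comp, ← LF.map_comp,
        ← LF.map_comp]
      refine congrArg (fun z => _ ≫ _ ≫ LF.map z) ?_
      rw [← hfac]; simp
    · ext K
      show (E.left.map (e (Q.obj K)).inv ≫ E.hom.app (L (Q.obj K)) ≫ CategoryTheory.inv (α.app (L (Q.obj K))) ≫
        LF.map (e (Q.obj K)).hom) ≫ α.app K = E.hom.app K
      obtain ⟨M, σ, γ, hσ, hM, hfac⟩ := hfr (e (Q.obj K)).hom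
      haveI := hα M hM
      refine (cancel_epi (E.left.map (e (Q.obj K)).hom)).1 ((cancel_epi (E.left.map (Q.map σ))).1 ?_)
      simp only [← E.left.map_comp_assoc, Category.assoc]
      rw [Iso.hom_inv_id, Category.comp_id, reassoc_of% (hn σ), hfac]
      have h := α.naturality γ
      simp only [Functor.comp_map] at h
      have h' : E.left.map (Q.map γ) ≫ E.hom.app K = E.hom.app M ≫ F.map γ := E.hom.naturality γ
      rw [← LF.map_comp_assoc, hfac, h, h', IsIso.inv_hom_id_assoc]
  · apply CostructuredArrow.hom_ext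
    ext Y
    show m.left.app Y = E.left.map (e Y).inv ≫ E.hom.app (L Y) ≫ CategoryTheory.inv (α.app (L Y)) ≫ LF.map (e Y).hom
    have h := congr_app (CostructuredArrow.w m) (L Y)
    change m.left.app (Q.obj (L Y)) ≫ α.app (L Y) = E.hom.app (L Y) at h
    have hn : E.left.map (e Y).hom ≫ m.left.app Y = m.left.app (Q.obj (L Y)) ≫ LF.map (e Y).hom :=
      m.left.naturality (e Y).hom
    refine ((E.left.mapIso (e Y)).inv_hom_id_assoc (m.left.app Y)).symm.trans ?_
    refine congrArg (E.left.map (e Y).inv ≫ ·) (hn.trans ?_)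
    rw [← h]
    simp

end Groth.Agent.Adapted8
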